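import Cfsg.Agent.H210.GS.Count2
import Cfsg.Agent.H535.Ore.ON
import Cfsg.Agent.H147.Fpr.ON
import Cfsg.Agent.H147.Gen.Tr

/-!
# S4327, row of the O'Nan group (helper210)

Five conjugates are enough for every odd prime (`H867.Gen.Baer.gen11_of_odd`). An element of order 31 is a product of
3, 3, 4, 2, 2 conjugates of an element of order 3, 5, 7, 11, 19 (`31 ∤ χ(1)` implies `χ(1) ≥ 418` and
`32 |χ(x)| ≤ χ(1)` for `x` of order 3), and some product of a conjugate of it with a conjugate of `x` has order 19.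
No proper subgroup has an order divisible by `31 * 19`, `31 * 11` or `31 * 7`.
-/

set_option autoImplicit false
set_option maxRecDepth 100000

namespace Cfsg.Agent.H210.GS.ON

open Cfsg Subgroup Cfsg.Agent.Characters.Core
open Cfsg.Agent.H653.Sieve (deg deg_cast one_of_deg allDiv)
open Cfsg.Agent.H653.Sys
open Cfsg.Agent.H210.On7 (Data)
open Cfsg.Agent.H535.K4.ON Cfsg.Agent.H535.Ore.ON
open Cfsg.Agent.H894.J4Two (apply_eq_of_isConj exists_col_rat orderOf_of_card)

universe u

/-- the list of the candidates -/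
def chk31 (d : ℕ) : Bool :=
  Nat.ble NN (d * d) || Nat.beq d 1 || Nat.beq d 32 || Nat.beq (d % 31) 0 ||
    (Nat.ble 418 d && (valsT d).all fun T => Nat.ble (32 * T.natAbs) d) || allV Gs d fun _ => false

theorem chk31_all : allDiv NN chk31 facs 1 = true := by decide +kernel

section

variable {G : Type u} [Group G] [Finite G]

theorem val_three [IsSimpleGroup G] (Δ : Data G) [Fintype (IrrCharacter G)] {T : IrrCharacter G → ℤ}
    (vT : ∀ χ : IrrCharacter G, (χ : G → ℂ) Δ.z = T χ) (qT : ∑ χ : IrrCharacter G, T χ * T χ = 3240)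
    (χ : IrrCharacter G) : T χ ∈ valsT (deg χ) := by
  classical
  obtain ⟨m, hm⟩ : ∃ m : ℕ, (deg χ : ℤ) + 80 * T χ = 81 * m := by
    have := Fintype.ofFinite Δ.E
    obtain ⟨m, hm⟩ := SmallSimple.TheoremBCor.exists_sum_eq (isIrr_isCharacter χ.2) Δ.E
    rw [← Finset.add_sum_erase _ _ (Finset.mem_univ (1 : Δ.E)), Subgroup.coe_one, deg_cast,
      Finset.sum_congr rfl (g := fun _ => (T χ : ℂ)), Finset.sum_const,
      Finset.card_erase_of_mem (Finset.mem_univ _), Finset.card_univ, ← Nat.card_eq_fintype_card, Δ.cardE] at hm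
    · refine ⟨m, ?_⟩
      have h6 : (((deg χ : ℤ) + 80 * T χ : ℤ) : ℂ) = ((81 * m : ℤ) : ℂ) := by
        push_cast
        simp only [nsmul_eq_mul] at hm
        push_cast at hm
        linear_combination hm
      exact_mod_cast h6
    · intro b hb
      rw [← vT]
      exact apply_eq_of_isConj χ.2 (Δ.c3 b (Δ.expE b b.2 fun e => (Finset.mem_erase.1 hb).1 (Subtype.ext e)))
  have hTs : T χ * T χ ≤ 3240 := by
    have h1 := Finset.single_le_sum (f := fun χ : IrrCharacter G => T χ * T χ) (fun χ _ => mul_self_nonneg _)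
      (Finset.mem_univ χ)
    rw [qT] at h1
    exact h1
  have bT : -56 ≤ T χ ∧ T χ ≤ 56 := by constructor <;> nlinarith
  obtain ⟨bT1, bT2⟩ := bT
  refine List.mem_filter.2 ⟨?_, ?_⟩
  · rw [List.mem_cons, List.mem_singleton]
    push_cast
    omega
  · rw [Bool.and_eq_true, decide_eq_true_eq]
    exact ⟨Nat.ble_eq_true_of_le (by omega), by rw [hm]; positivity⟩

/-- the characters of degree prime to 31 -/
theorem deg31 [IsSimpleGroup G] (hG : ¬ IsMulCommutative G) (Δ : Data G) (χ : IrrCharacter G) (h1 : (χ : G → ℂ) ≠ 1)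
    (h31 : ¬ 31 ∣ charDegree (χ : G → ℂ)) : 418 ≤ charDegree (χ : G → ℂ) ∧
      ∀ T ∈ valsT (charDegree (χ : G → ℂ)), 32 * T.natAbs ≤ charDegree (χ : G → ℂ) := by
  classical
  have := finite_irr (G := G)
  have := Fintype.ofFinite (IrrCharacter G)
  obtain ⟨Ws, hs⟩ := exists_sys' hG Δ
  have hN : Nat.card G = NN := Δ.card
  have hne1 : deg χ ≠ 1 := fun h => h1 (one_of_deg (not_prime Δ) χ h)
  have hdvd : deg χ ∣ H653.Sieve.facProd facs := by
    rw [facs_prod, ← hN]
    exact Blocks.Knorr.charDegree_dvd χ.2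
  have hlt : deg χ * deg χ < NN := by
    have hsq : ∑ χ : IrrCharacter G, deg χ * deg χ = NN := by
      have h3 := SmallSimple.DegreeData.sum_sq (G := G)
      rw [← hN, ← h3]
      exact Finset.sum_congr rfl fun χ _ => by unfold deg; ring
    have hχ₁ : ∃ χ₁ : IrrCharacter G, (χ₁ : G → ℂ) = 1 := ⟨⟨1, isIrr_one⟩, rfl⟩
    obtain ⟨χ₁, hχ₁⟩ := hχ₁
    have hne : χ ≠ χ₁ := fun h => h1 (by rw [h, hχ₁])
    have hd1 : deg χ₁ = 1 := by
      unfold deg charDegree
      rw [hχ₁]
      simp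
    have h4 : ∑ χ' ∈ ({χ, χ₁} : Finset (IrrCharacter G)), deg χ' * deg χ' ≤
        ∑ χ' : IrrCharacter G, deg χ' * deg χ' :=
      Finset.sum_le_sum_of_subset (Finset.subset_univ _)
    rw [Finset.sum_pair hne, hsq, hd1] at h4
    omega
  have hpr : ∀ pa ∈ facs, pa.1.Prime := by
    intro pa hpa
    have := List.all_eq_true.1 facs_prime pa hpa
    simpa using this
  have h3 := H653.Sieve.allDiv_spec hpr chk31_all (deg χ) hdvd (by rwa [one_mul])
  rw [one_mul, chk31] at h3
  simp only [Bool.or_eq_true, Bool.and_eq_true] at h3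
  rcases h3 with ((((h3 | h3) | h3) | h3) | h3) | h3
  · exact absurd (Nat.le_of_ble_eq_true h3) (by omega)
  · exact absurd (Nat.eq_of_beq_eq_true h3) hne1
  · exact absurd (Nat.eq_of_beq_eq_true h3) (no_deg hG Δ 32 a_32 m_32 (by norm_num [m_32]) cs_32 cert_32 all_32 χ)
  · exact absurd (Nat.dvd_of_mod_eq_zero (Nat.eq_of_beq_eq_true h3)) h31
  · refine ⟨Nat.le_of_ble_eq_true h3.1, fun T hT => ?_⟩
    exact Nat.le_of_ble_eq_true (List.all_eq_true.1 h3.2 T hT)
  · exact absurd (allV_spec hs χ h3) Bool.false_ne_true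

end

open Cfsg.Agent.H147.Gen Cfsg.Agent.H940.Eng Cfsg.Agent.H940.Eng.D Cfsg.Agent.H147.Fpr.ONan
open Cfsg.Agent.H474.ONC

/-- no proper subgroup has an order divisible by `31 * 7`, `31 * 11`, `31 * 19` -/
theorem c217 : chkO2 l_opn n_opn 217 ⟨31, 31 * 1, [(3, 1), (5, 1), (31, 1)]⟩ [] [] 20 loc o_opn = true := by
  decide +kernel
theorem c341 : chkO2 l_opn n_opn 341 ⟨31, 31 * 1, [(3, 1), (5, 1), (31, 1)]⟩ [] [] 20 loc o_opn = true := by
  decide +kernel
theorem c589 : chkO2 l_opn n_opn 589 ⟨31, 31 * 1, [(3, 1), (5, 1), (31, 1)]⟩ [] [] 20 loc o_opn = true := by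
  decide +kernel

theorem top_of (B : Base) {q : ℕ} (hq : Nat.Coprime q 31)
    (hc : chkO2 l_opn n_opn (31 * q) ⟨31, 31 * 1, [(3, 1), (5, 1), (31, 1)]⟩ [] [] 20 loc o_opn = true)
    (K : Subgroup G) (h31 : 31 ∣ Nat.card K) (hq1 : q ∣ Nat.card K) : K = ⊤ := by
  by_contra hK
  have h1 := orders2 (ctx B) ⟨31, 31 * 1, [(3, 1), (5, 1), (31, 1)]⟩ (by simp [loc]) [] 20 hc K
    (hq.symm.mul_dvd_of_dvd_of_dvd h31 hq1) hK
  exact absurd h1 (by simp)

theorem one_conj {x t : G} (hx : orderOf x = 7) (ht : orderOf t = 2) (h : Commute x t) :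
    Nat.card (centralizer ({x} : Set G)) ≤ 1372 := by
  have := H493.Sep.ONLoc.fin
  -- an involution commuting with `x7`
  obtain ⟨M, -, -, -, hM, -⟩ := loc7.exists_compl
  have : Fact (Nat.Prime 2) := ⟨Nat.prime_two⟩
  have h7F : Fact (Nat.Prime 7) := ⟨by norm_num⟩
  obtain ⟨s, hs⟩ := exists_prime_orderOf_dvd_card' 2 (by rw [hM]; exact ⟨2 * Nat.card M, by ring⟩ :
    2 ∣ Nat.card (centralizer ({x7} : Set G)))
  have hso : orderOf (s : G) = 2 := by rw [Subgroup.orderOf_coe, hs]
  have hs1 : (s : G) * x7 = x7 * s := mem_centralizer_singleton_iff.1 s.2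
  have sq : ∀ {a : G}, orderOf a = 2 → a * a = 1 ∧ a ≠ 1 := by
    intro a ha
    refine ⟨by rw [← pow_two, ← ha, pow_orderOf_eq_one], ?_⟩
    rintro rfl
    rw [orderOf_one] at ha
    norm_num at ha
  have hst : IsConj (s : G) t := (KFacts.ON.OneClass.one_class (sq hso).1 (sq hso).2).trans
    (KFacts.ON.OneClass.one_class (sq ht).1 (sq ht).2).symm
  obtain ⟨a, ha⟩ := isConj_iff.1 hst
  have hC : Nat.card (centralizer ({t} : Set G)) = 161280 := by
    rw [Blocks.SylowIn.card_centralizer_of_isConj (KFacts.ON.OneClass.one_class (sq ht).1 (sq ht).2).symm,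
      KFacts.ON.Cent.card_cent]
  -- both generate Sylow 7-subgroups of the centralizer
  have hmem1 : x ∈ centralizer ({t} : Set G) := mem_centralizer_singleton_iff.2 h.eq
  have hmem2 : a * x7 * a⁻¹ ∈ centralizer ({t} : Set G) := by
    rw [mem_centralizer_singleton_iff, ← ha]
    calc a * x7 * a⁻¹ * (a * ↑s * a⁻¹) = a * (x7 * s) * a⁻¹ := by group
      _ = a * (s * x7) * a⁻¹ := by rw [hs1]
      _ = a * ↑s * a⁻¹ * (a * x7 * a⁻¹) := by group
  have ho2 : orderOf (a * x7 * a⁻¹) = 7 := by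
    have h4 : orderOf (a * x7 * a⁻¹) = orderOf x7 := by
      rw [← MulAut.conj_apply]
      exact orderOf_injective (MulAut.conj a).toMonoidHom (MulAut.conj a).injective x7
    rw [h4, order_x7]
  have hfac : (Nat.card (centralizer ({t} : Set G))).factorization 7 = 1 := by
    rw [hC, show (161280 : ℕ) = 7 * 23040 by norm_num, Nat.factorization_mul (by norm_num) (by norm_num)]
    simp [Nat.Prime.factorization (show Nat.Prime 7 by norm_num),
      Nat.factorization_eq_zero_of_not_dvd (show ¬ 7 ∣ 23040 by norm_num)]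
  have syl : ∀ {y : G} (hy : y ∈ centralizer ({t} : Set G)), orderOf y = 7 →
      ∃ P : Sylow 7 (centralizer ({t} : Set G)), (P : Subgroup (centralizer ({t} : Set G))) =
        zpowers (⟨y, hy⟩ : centralizer ({t} : Set G)) := by
    intro y hy ho
    have hcard : Nat.card (zpowers (⟨y, hy⟩ : centralizer ({t} : Set G))) = 7 := by
      rw [Nat.card_zpowers, Subgroup.orderOf_mk, ho]
    have e : Nat.card (zpowers (⟨y, hy⟩ : centralizer ({t} : Set G))) =
        7 ^ (Nat.card (centralizer ({t} : Set G))).factorization 7 := by rw [hcard, hfac, pow_one]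
    exact ⟨Sylow.ofCard _ e, rfl⟩
  obtain ⟨P, hP⟩ := syl hmem1 hx
  obtain ⟨Q, hQ⟩ := syl hmem2 ho2
  obtain ⟨g, hg⟩ := MulAction.exists_smul_eq (centralizer ({t} : Set G)) Q P
  -- the centralizers have the same order
  have key : ∃ k : ℕ, ∃ b : G, x = (b * x7 * b⁻¹) ^ k := by
    have h1 : (⟨x, hmem1⟩ : centralizer ({t} : Set G)) ∈ (P : Subgroup (centralizer ({t} : Set G))) := by
      rw [hP]; exact mem_zpowers _
    rw [← hg, Sylow.coe_subgroup_smul, hQ] at h1
    obtain ⟨w, hw, hw1⟩ := h1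
    have hfin : IsOfFinOrder (⟨a * x7 * a⁻¹, hmem2⟩ : centralizer ({t} : Set G)) := isOfFinOrder_of_finite _
    obtain ⟨k, hk⟩ : ∃ k : ℕ, (⟨a * x7 * a⁻¹, hmem2⟩ : centralizer ({t} : Set G)) ^ k = w :=
      Submonoid.mem_powers_iff _ _ |>.1 (hfin.mem_powers_iff_mem_zpowers.2 hw)
    refine ⟨k, (g : G) * a, ?_⟩
    have h2 := congrArg Subtype.val hw1
    rw [← hk] at h2
    simp only [MulDistribMulAction.toMonoidEnd_apply, MulDistribMulAction.toMonoidHom_apply, MulAut.smul_def,
      MulAut.conj_apply] at h2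
    rw [← h2]
    push_cast
    rw [← conj_pow]
    group
  obtain ⟨k, b, hk⟩ := key
  have hb : Nat.card (centralizer ({b * x7 * b⁻¹} : Set G)) = Nat.card (centralizer ({x7} : Set G)) :=
    Blocks.SylowIn.card_centralizer_of_isConj (isConj_iff.2 ⟨b, rfl⟩)
  -- `b x7 b⁻¹` is a power of `x` too
  have h5 : Nat.card (centralizer ({x} : Set G)) ≤ Nat.card (centralizer ({b * x7 * b⁻¹} : Set G)) := by
    have hbo : orderOf (b * x7 * b⁻¹) = 7 := by
      have h4 : orderOf (b * x7 * b⁻¹) = orderOf x7 := by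
        rw [← MulAut.conj_apply]
        exact orderOf_injective (MulAut.conj b).toMonoidHom (MulAut.conj b).injective x7
      rw [h4, order_x7]
    have hz : zpowers x = zpowers (b * x7 * b⁻¹) := by
      apply Subgroup.eq_of_le_of_card_ge
      · rw [zpowers_le, hk]; exact pow_mem (mem_zpowers _) k
      · rw [Nat.card_zpowers, Nat.card_zpowers, hx, hbo]
    have hmem : b * x7 * b⁻¹ ∈ zpowers x := by rw [hz]; exact mem_zpowers _
    obtain ⟨j, hj⟩ := hmem
    refine Subgroup.card_le_of_le ?_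
    intro c hc
    rw [mem_centralizer_singleton_iff] at hc ⊢
    have hj' : x ^ j = b * x7 * b⁻¹ := hj
    rw [← hj']
    exact ((show Commute c x from hc).zpow_right j).eq
  exact (h5.trans hb.le).trans cent7

/-- all elements of order 7 -/
theorem cent_seven' {x : G} (hx : orderOf x = 7) : Nat.card (centralizer ({x} : Set G)) ≤ 1372 := by
  have := H493.Sep.ONLoc.fin
  by_cases h2 : 2 ∣ Nat.card (centralizer ({x} : Set G))
  · have : Fact (Nat.Prime 2) := ⟨Nat.prime_two⟩
    obtain ⟨s, hs⟩ := exists_prime_orderOf_dvd_card' 2 h2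
    have hso : orderOf (s : G) = 2 := by rw [Subgroup.orderOf_coe, hs]
    exact one_conj hx hso (show Commute x (s : G) from (mem_centralizer_singleton_iff.1 s.2).symm)
  · have h1 : Nat.card (centralizer ({x} : Set G)) = 7 ^ (Nat.card (centralizer ({x} : Set G))).primeFactorsList.length := by
      refine Nat.eq_prime_pow_of_unique_prime_dvd Nat.card_pos.ne' fun {q} hq hqd => ?_
      by_contra hq7
      have hqF : Fact q.Prime := ⟨hq⟩
      obtain ⟨s, hs⟩ := exists_prime_orderOf_dvd_card' q hqd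
      have hso : orderOf (s : G) = q := by rw [Subgroup.orderOf_coe, hs]
      have hxs : x ∈ centralizer ({(s : G)} : Set G) :=
        mem_centralizer_singleton_iff.2 (mem_centralizer_singleton_iff.1 s.2).symm
      have h3 : 7 ∣ Nat.card (centralizer ({(s : G)} : Set G)) := by
        rw [← hx]
        exact dvd_card_of_mem hxs
      have hqG : q ∣ 460815505920 := by
        rw [← KFacts.ON.OneClass.card_ON]
        exact hqd.trans (Subgroup.card_subgroup_dvd_card _)
      rcases cases_on hq hqG with rfl | rfl | rfl | rfl | rfl | rfl | rfl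
      · exact h2 hqd
      · rw [H999.ONFiveCent.card_cent_three hso] at h3; norm_num at h3
      · rw [H999.ONFiveCent.card_cent_five hso] at h3; norm_num at h3
      · exact hq7 rfl
      · rw [card_cent_eleven hso] at h3; norm_num at h3
      · rw [H680.ONThirtyOne.card_cent_nineteen hso] at h3; norm_num at h3
      · rw [H680.ONThirtyOne.card_cent hso] at h3; norm_num at h3
    set k := (Nat.card (centralizer ({x} : Set G))).primeFactorsList.length
    have h4 : 7 ^ k ∣ 460815505920 := by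
      rw [← h1, ← KFacts.ON.OneClass.card_ON]
      exact Subgroup.card_subgroup_dvd_card _
    have hk : k ≤ 3 := by
      by_contra hk
      push Not at hk
      have h5 : 7 ^ 4 ∣ 460815505920 := (pow_dvd_pow 7 hk).trans h4
      norm_num at h5
    rw [h1]
    exact (Nat.pow_le_pow_right (by norm_num) hk).trans (by norm_num)

theorem exists_ord {r : ℕ} (hr : r.Prime) (hd : r ∣ 460815505920) : ∃ z : G, orderOf z = r := by
  have := H493.Sep.ONLoc.fin
  have : Fact r.Prime := ⟨hr⟩
  exact exists_prime_orderOf_dvd_card' r (by rw [KFacts.ON.OneClass.card_ON]; exact hd)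

theorem deg_of {z : G} (hz : orderOf z = 31) {χ : IrrCharacter G} (h1 : (χ : G → ℂ) ≠ 1) (h : (χ : G → ℂ) z ≠ 0) :
    418 ≤ charDegree (χ : G → ℂ) ∧ ∀ T ∈ valsT (charDegree (χ : G → ℂ)), 32 * T.natAbs ≤ charDegree (χ : G → ℂ) := by
  have := H493.Sep.ONLoc.fin
  have := H493.Sep.ONLoc.simple
  obtain ⟨Δ⟩ := H210.On7.exists_data
  refine deg31 not_comm Δ χ h1 (not_dvd_of_ne_zero (p := 31) (by norm_num) ?_ ?_ (by rw [hz]) h)
  · rw [KFacts.ON.OneClass.card_ON]; norm_num
  · rw [KFacts.ON.OneClass.card_ON]; norm_num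

theorem quot {z : G} (hz : orderOf z = 31) {x : G} {c s : ℕ} (hc : Nat.card (centralizer ({x} : Set G)) ≤ c)
    (hcs : s ^ 2 * c ≤ 418 ^ 2) : ∀ χ : IrrCharacter G, (χ : G → ℂ) ≠ 1 → (χ : G → ℂ) z ≠ 0 →
      (s : ℝ) * ‖(χ : G → ℂ) x‖ ≤ ‖(χ : G → ℂ) 1‖ := by
  have := H493.Sep.ONLoc.fin
  exact fun χ h1 h => quot_le hc hcs (deg_of hz h1 h).1

theorem quot_three {z : G} (hz : orderOf z = 31) {x : G} (hx : orderOf x = 3) :
    ∀ χ : IrrCharacter G, (χ : G → ℂ) ≠ 1 → (χ : G → ℂ) z ≠ 0 →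
      ((32 : ℕ) : ℝ) * ‖(χ : G → ℂ) x‖ ≤ ‖(χ : G → ℂ) 1‖ := by
  classical
  have := H493.Sep.ONLoc.fin
  have := H493.Sep.ONLoc.simple
  have := finite_irr (G := G)
  have := Fintype.ofFinite (IrrCharacter G)
  intro χ h1 h
  obtain ⟨Δ⟩ := H210.On7.exists_data
  have hz3 : ∀ w ∈ zpowers Δ.z, w ≠ 1 → IsConj w Δ.z := fun w hw h1 =>
    Δ.c3 w (orderOf_of_card Nat.prime_three (by rw [Nat.card_zpowers, Δ.oz]) hw h1)
  obtain ⟨T, -, vT, qT⟩ := exists_col_rat Nat.prime_three Δ.oz hz3
  have h2 := (deg_of hz h1 h).2 _ (val_three Δ vT (by rw [qT, Δ.cz]; norm_num) χ)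
  have h3 : (χ : G → ℂ) x = T χ := by
    rw [← vT]
    exact apply_eq_of_isConj χ.2 (Δ.c3 x hx)
  have h4 : ‖(χ : G → ℂ) x‖ = ((T χ).natAbs : ℝ) := by
    rw [h3, Complex.norm_intCast, Nat.cast_natAbs, Int.cast_abs]
  have h5 : ‖(χ : G → ℂ) 1‖ = (charDegree (χ : G → ℂ) : ℝ) := by
    rw [← H686.CharKit.charDegree_irr χ, Complex.norm_natCast]
  rw [h4, h5]
  exact_mod_cast h2

/-- **the odd primes** -/
theorem genI_odd (B : Base) {q : ℕ} (hq : q.Prime) (h2 : q ≠ 2) : GenI G 5 q := by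
  have := H493.Sep.ONLoc.fin
  intro x hx
  obtain ⟨z, hz⟩ := exists_ord (r := 31) (by norm_num) (by norm_num)
  obtain ⟨w, hw⟩ := exists_ord (r := 19) (by norm_num) (by norm_num)
  have hcz : Nat.card (centralizer ({z} : Set G)) ≤ 31 := (H680.ONThirtyOne.card_cent hz).le
  have hcw : Nat.card (centralizer ({w} : Set G)) ≤ 19 := (H680.ONThirtyOne.card_cent_nineteen hw).le
  have t19 : ∀ K : Subgroup G, orderOf z ∣ Nat.card K → orderOf w ∣ Nat.card K → K = ⊤ := fun K h1 h2 =>
    top_of B (q := 19) (by norm_num) c589 K (by rwa [hz] at h1) (by rwa [hw] at h2)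
  have hqG : q ∣ 460815505920 := by
    rw [← hx, ← KFacts.ON.OneClass.card_ON]
    exact orderOf_dvd_natCard _
  rcases cases_on hq hqG with rfl | rfl | rfl | rfl | rfl | rfl | rfl
  · exact absurd rfl h2
  · exact (cg_of_two (n := 2) (H999.ONFiveCent.card_cent_three hx).le hcz hcw (quot_three hz hx) (by norm_num)
      (by norm_num) t19).mono (by norm_num)
  · exact (cg_of_two (n := 2) (s := 31) (H999.ONFiveCent.card_cent_five hx).le hcz hcw
      (quot hz (H999.ONFiveCent.card_cent_five hx).le (by norm_num)) (by norm_num) (by norm_num) t19).mono (by norm_num)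
  · exact (cg_of_one (n := 3) (s := 11) (cent_seven' hx) hcz (quot hz (cent_seven' hx) (by norm_num)) (by norm_num)
      (fun K h1 h2 => top_of B (q := 7) (by norm_num) c217 K (by rwa [hz] at h2) (by rwa [hx] at h1))).mono (by norm_num)
  · exact (cg_of_one (n := 1) (s := 126) (card_cent_eleven hx).le hcz (quot hz (card_cent_eleven hx).le (by norm_num))
      (by norm_num) (fun K h1 h2 => top_of B (q := 11) (by norm_num) c341 K (by rwa [hz] at h2) (by rwa [hx] at h1))).mono
      (by norm_num)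
  · exact (cg_of_one (n := 1) (s := 95) (H680.ONThirtyOne.card_cent_nineteen hx).le hcz
      (quot hz (H680.ONThirtyOne.card_cent_nineteen hx).le (by norm_num))
      (by norm_num) (fun K h1 h2 => top_of B (q := 19) (by norm_num) c589 K (by rwa [hz] at h2) (by rwa [hx] at h1))).mono
      (by norm_num)
  · have hcx : Nat.card (centralizer ({x} : Set G)) ≤ 31 := (H680.ONThirtyOne.card_cent hx).le
    have h1 : x ∈ closure (Set.range fun i : Fin 1 => (fun _ => (1 : G)) i * x * ((fun _ => (1 : G)) i)⁻¹) :=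
      subset_closure ⟨0, by simp⟩
    obtain ⟨g, a, h3, h4⟩ := exists_two h1 (prd_of_quot (s := 75) hcx hcw (quot hx hcx (by norm_num)) (by norm_num))
    have h5 : CG 2 x := by
      refine ⟨g, top_of B (q := 19) (by norm_num) c589 _ ?_ ?_⟩
      · have h6 := dvd_card_of_mem h3
        have h7 : orderOf (a * x * a⁻¹) = orderOf x := by
          rw [← MulAut.conj_apply]
          exact orderOf_injective (MulAut.conj a).toMonoidHom (MulAut.conj a).injective x
        rwa [h7, hx] at h6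
      · have h6 := dvd_card_of_mem h4
        rwa [hw] at h6
    exact h5.mono (by norm_num)

/-- **S4327, the row of the O'Nan group** -/
theorem gen_ON {K : Type u} [Group K] (B : Base) (h : Spor.IsoON K) [Finite K] [IsSimpleGroup K]
    (hc : center K = ⊥)
    (h2 : ∀ x : MulAut K, (orderOf x).Prime → x ∉ (MulAut.conj : K →* MulAut K).range → orderOf x = 2) :
    Gen11 K := by
  have hf := H493.Sep.ONLoc.fin
  obtain ⟨e⟩ := h
  have hL : ¬ IsPGroup 2 K := by
    intro hp
    obtain ⟨n, hn⟩ := IsPGroup.iff_card.1 hp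
    rw [Nat.card_congr e.toEquiv, KFacts.ON.OneClass.card_ON] at hn
    have h3 : 3 ∣ 2 ^ n := by rw [← hn]; norm_num
    have := (Nat.prime_three.dvd_of_dvd_pow h3)
    norm_num at this
  exact H867.Gen.Baer.gen11_of_odd hc hL h2 fun q hq h => (genI_odd B hq h).congr e.symm

end Cfsg.Agent.H210.GS.ON
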